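import Cfsg.Agent.Helper28.HeSub
import Cfsg.Agent.Helper28.He2.Main
import Cfsg.Agent.Helper28.HeP1.Main
set_option autoImplicit false
set_option linter.constructorNameAsVariable false
namespace Cfsg.Agent.Helper28.HeC
open Cfsg.Agent.Helper28 Cfsg.Spor

theorem hY0 : He2.Y = Set.range (fun z => FreeGroup.of (HeP1D.iota z)) := by
  ext y
  constructor
  · intro (h : y ∈ He2.Ylist)
    simp only [He2.Ylist, List.mem_cons, List.not_mem_nil, or_false] at h
    rcases h with rfl | rfl | rfl | rfl | rfl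
    exacts [⟨.a, rfl⟩, ⟨.b, rfl⟩, ⟨.c, rfl⟩, ⟨.d, rfl⟩, ⟨.e, rfl⟩]
  · rintro ⟨z, rfl⟩
    show _ ∈ He2.Ylist
    cases z <;> simp [He2.Ylist, HeP1D.iota]

theorem hY1 : HeP1.Y = ∅ := by
  ext y; simp [HeP1.Ylist]

theorem upper1 : Finite (PresentedGroup HeP1.R) ∧ Nat.card (PresentedGroup HeP1.R) = 15120 :=
  card_of_index_bot HeP1.R HeP1.Y hY1 15120 (by omega) HeP1.main_index

theorem upper0 : Finite (PresentedGroup He2.R) ∧
    Nat.card (PresentedGroup He2.R) ≤ 266560 * 15120 := by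
  obtain ⟨h1, h2, -⟩ := card_le_of_link HeP1D.iota HeP1.R He2.R HeP1D.hrels
    He2.Y hY0 266560 (15120) (by omega) He2.main_index upper1.1 (le_of_eq upper1.2)
  exact ⟨h1, h2⟩

theorem upper : Finite (PresentedGroup He2.R) ∧ Nat.card (PresentedGroup He2.R) ≤ 4030387200 :=
  ⟨upper0.1, le_trans upper0.2 (by norm_num)⟩

end Cfsg.Agent.Helper28.HeC
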