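import Cfsg.Agent.Helper28.HeC.LvD2
set_option autoImplicit false
set_option maxRecDepth 1000000
namespace Cfsg.Agent.Helper28.HeC
open Cfsg.Agent.Helper28 Cfsg.Agent.Helper28.He1
theorem orb_ok2_p0 : allLtFrom (orbOkW ws2 7 ptabs orb2) 0 2058 = true := by decide +kernel
theorem let_ok2 : lettersOkW ws2 7 ptabs.L = true := by decide +kernel
theorem fix_ok2 : fixOkW ws2 7 ptabs [0] = true := by decide +kernel
theorem cnt2 : countEq (fun j => oRoot (orb2 j)) 1 2058 = 1360 := by decide +kernel
theorem roots_ok2 : rootsOkW orb2 [1, 0, 8, 22, 164] ptabs.n = true := by decide +kernel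
theorem cnt2_0 : countEq (fun j => oRoot (orb2 j)) 0 2058 = 1 := by decide +kernel
theorem cnt2_8 : countEq (fun j => oRoot (orb2 j)) 8 2058 = 425 := by decide +kernel
theorem cnt2_22 : countEq (fun j => oRoot (orb2 j)) 22 2058 = 136 := by decide +kernel
theorem cnt2_164 : countEq (fun j => oRoot (orb2 j)) 164 2058 = 136 := by decide +kernel
end Cfsg.Agent.Helper28.HeC
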